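import Cfsg.Agent.H567.Fx.SylTI
import Cfsg.Agent.H901.OvPSU3
import Cfsg.Agent.H488.PsuTwo
import Cfsg.Agent.H242.StrP.UniThree
import Cfsg.Agent.H545.LT.RowPSUThree
import Cfsg.Agent.S0283

/-!
# `PSU₃(q)`, `q ≥ 5` odd: no actions of fixity 4 with point stabilizers of even order (helper567, for S3002)
-/

set_option autoImplicit false
set_option linter.unusedSectionVars false

namespace Cfsg.Agent.H567.Fx

open Subgroup Cfsg.Agent.H254.Ev Cfsg.Agent.H254.Fx Cfsg Matrix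

variable {K : Type} [Field K] [Fintype K] {q : ℕ}

/-- a unit of order `r ∣ q + 1` -/
theorem exists_unit (hK : Fintype.card K = q ^ 2) {r : ℕ} (hr : r ∣ q + 1) :
    ∃ w : Kˣ, orderOf w = r ∧ w ^ (q + 1) = 1 := by
  obtain ⟨g, hg⟩ := IsCyclic.exists_generator (α := Kˣ)
  have hq2 := Cfsg.Agent.ClassicalGeometry.GUBasic.two_le hK
  have hog : orderOf g = (q + 1) * (q - 1) := by
    rw [orderOf_eq_card_of_forall_mem_zpowers hg, Nat.card_units, Nat.card_eq_fintype_card, hK]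
    have := Nat.sq_sub_sq q 1
    rwa [one_pow] at this
  obtain ⟨k, hk⟩ := hr
  have hk0 : 0 < k := by
    rcases Nat.eq_zero_or_pos k with h | h
    · rw [h, mul_zero] at hk; omega
    · exact h
  have hr0 : 0 < r := by
    rcases Nat.eq_zero_or_pos r with h | h
    · rw [h, zero_mul] at hk; omega
    · exact h
  have hq1 : 0 < q - 1 := by omega
  have h1 : (q + 1) * (q - 1) = r * (k * (q - 1)) := by rw [hk]; ring
  have ho : orderOf (g ^ (k * (q - 1))) = r := by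
    rw [orderOf_pow_of_dvd (Nat.mul_pos hk0 hq1).ne' (by rw [hog, h1]; exact Dvd.intro_left _ rfl), hog, h1,
      Nat.mul_div_cancel _ (Nat.mul_pos hk0 hq1)]
  refine ⟨_, ho, ?_⟩
  rw [hk, pow_mul, ← ho, pow_orderOf_eq_one, one_pow]

/-- an odd power of 3, a square: `3 ^ f + 1`, `f ≥ 2`, has a prime divisor `≥ 5` -/
theorem exists_prime_three {f : ℕ} (hf : 2 ≤ f) : ∃ r : ℕ, r.Prime ∧ 5 ≤ r ∧ r ∣ 3 ^ f + 1 := by
  by_contra hcon
  push Not at hcon
  -- `3 ^ f + 1` is a power of 2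
  have h1 : ∀ r : ℕ, r.Prime → r ∣ 3 ^ f + 1 → r = 2 := by
    intro r hr hd
    by_contra h2
    have h3 : r ≠ 3 := by
      rintro rfl
      have h4 : 3 ∣ 3 ^ f := dvd_pow_self _ (by omega)
      have h5 := (Nat.dvd_add_right h4).1 hd
      exact absurd h5 (by norm_num)
    have h4 := hr.two_le
    have h5 : 5 ≤ r := by
      rcases Nat.lt_or_ge r 5 with h5 | h5
      · interval_cases r
        · exact absurd rfl h2
        · exact absurd rfl h3
        · exact absurd hr (by norm_num)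
      · exact h5
    exact hcon r hr h5 hd
  have h2 : 3 ^ f + 1 = 2 ^ (3 ^ f + 1).primeFactorsList.length :=
    Nat.eq_prime_pow_of_unique_prime_dvd (by positivity) (fun {d} hd h => h1 d hd h)
  set m := (3 ^ f + 1).primeFactorsList.length with hm
  have h9 : 9 ≤ 3 ^ f := by
    calc 9 = 3 ^ 2 := by norm_num
      _ ≤ 3 ^ f := Nat.pow_le_pow_right (by norm_num) hf
  have hm3 : 3 ≤ m := by
    by_contra hlt
    have : 2 ^ m ≤ 2 ^ 2 := Nat.pow_le_pow_right (by norm_num) (by omega)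
    omega
  have h8 : 8 ∣ 3 ^ f + 1 := by
    rw [h2]
    exact pow_dvd_pow 2 hm3
  have hmod : ∀ n : ℕ, 3 ^ n % 8 = 1 ∨ 3 ^ n % 8 = 3 := by
    intro n
    induction n with
    | zero => left; norm_num
    | succ n ih => rw [pow_succ, Nat.mul_mod]; rcases ih with h | h <;> rw [h] <;> norm_num
  have := hmod f
  omega

open Cfsg.Agent.H545.LT in
/-- the two unipotent elements -/
theorem exists_pair (hK : Fintype.card K = q ^ 2) (ho : Odd q) (p : ℕ) [Fact p.Prime] [CharP K p] :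
    ∃ u₁ u₂ t : SU 3 K q, u₁ ^ p = 1 ∧ u₂ ^ p = 1 ∧ t.1.1 = !![-1, 0, 0; 0, -1, 0; 0, 0, 1] ∧ u₁ * t = t * u₁ ∧
      u₂ * t = t * u₂ ∧ (QuotientGroup.mk u₁ : PSU 3 K q) ≠ 1 ∧ (QuotientGroup.mk u₂ : PSU 3 K q) ≠ 1 ∧
      ∀ v : Fin 3 → K, hermForm 3 K q v v = 0 → u₁.1.1 *ᵥ v = v → u₂.1.1 *ᵥ v = v → v = 0 := by
  have h2 : (2 : K) ≠ 0 := GTwoOdd.CentPSU.two_ne hK ho
  have hq2 := Cfsg.Agent.ClassicalGeometry.GUBasic.two_le hK
  have hadd := fun x y => Cfsg.Agent.LieClassical.HermBasic.add_pow_q hK x y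
  have hneg := fun x => Cfsg.Agent.LieClassical.HermBasic.neg_pow_q hK x
  obtain ⟨z, hz, -⟩ := Cfsg.Agent.H108.FullTr.exists_theta (F := K) (q := q) (α := 1) (β := 0) hK one_ne_zero
  obtain ⟨t, ht⟩ := Cfsg.Agent.H186.exists_pow_ne hK
  set l : K := t ^ q - t with hl
  have hl0 : l ≠ 0 := sub_ne_zero.2 ht
  have hlq : l ^ q = -l := by
    have h1 : l ^ q = (t ^ q) ^ q + (-t) ^ q := by rw [hl, sub_eq_add_neg, hadd]
    rw [h1, Cfsg.Agent.H186.pow_pow_q hK, hneg, hl]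
    ring
  have hzz := Cfsg.Agent.H186.pow_pow_q hK z
  have hu := uvS_mem hadd hz rfl hzz hlq
  have hz2 : (-z) * (-z ^ q) = -1 := by rw [neg_mul_neg]; exact hz
  have hu2 := uvS_mem hadd (z := -z) (z' := -z ^ q) hz2 (hneg z) (by rw [hneg, hzz]) hlq
  have hz0 : z ≠ 0 := by
    rintro rfl
    rw [zero_mul] at hz
    exact one_ne_zero (neg_eq_zero.1 hz.symm)
  have hzq0 : z ^ q ≠ 0 := pow_ne_zero _ hz0
  have hd : (!![-1, 0, 0; 0, -1, 0; 0, 0, 1] : Matrix (Fin 3) (Fin 3) K).det = 1 := by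
    rw [det_fin_three]; simp
  obtain ⟨d, hd⟩ := H901.Ov.exists_dg (F := K) (q := q) hK (a := -1) (b := -1) (c := 1) (by ring)
    (by rw [ho.add_one.neg_one_pow]) (by rw [ho.add_one.neg_one_pow]) (by rw [one_pow])
  have hcent : ∀ {z₁ z₂ : K} (h : z₁ * z₂ = -1) (hm : uvS h l ∈ SU 3 K q), z₁ ≠ 0 →
      (QuotientGroup.mk (⟨uvS h l, hm⟩ : SU 3 K q) : PSU 3 K q) ≠ 1 := by
    intro z₁ z₂ h hm hz₁ h1
    have h3 := GTwoOdd.Core.HFiveB.center_scalar hK ho ((QuotientGroup.eq_one_iff _).1 h1)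
    have h4 := congrFun (congrFun h3 1) 0
    have h5 : l * z₁ = 0 := by simpa [uvS, uv] using h4
    exact mul_ne_zero hl0 hz₁ h5
  have hcomm : ∀ {z₁ z₂ : K} (h : z₁ * z₂ = -1) (hm : uvS h l ∈ SU 3 K q),
      (⟨uvS h l, hm⟩ : SU 3 K q) * d = d * ⟨uvS h l, hm⟩ := by
    intro z₁ z₂ h hm
    refine H901.Ov.su_ext ?_
    show (uvS h l).1 * d.1.1 = d.1.1 * (uvS h l).1
    rw [hd]
    show uv z₁ z₂ l * _ = _ * uv z₁ z₂ l
    ext i j
    fin_cases i <;> fin_cases j <;> simp [uv, Matrix.mul_apply, Fin.sum_univ_three]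
  have hfix : ∀ {z₁ z₂ : K} (h : z₁ * z₂ = -1) (v : Fin 3 → K), uv z₁ z₂ l *ᵥ v = v → v 1 = z₁ * v 0 := by
    intro z₁ z₂ h v hv
    have h1 := congrFun hv 1
    simp [uv, Matrix.mulVec, dotProduct, Fin.sum_univ_three] at h1
    have h3 : l * (z₁ * v 0 - v 1) = 0 := by linear_combination h1
    exact (sub_eq_zero.1 ((mul_eq_zero.1 h3).resolve_left hl0)).symm
  refine ⟨⟨uvS hz l, hu⟩, ⟨uvS hz2 l, hu2⟩, d, Subtype.ext (uvS_char hz l), Subtype.ext (uvS_char hz2 l), hd, hcomm hz hu,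
    hcomm hz2 hu2, hcent hz hu hz0, hcent hz2 hu2 (neg_ne_zero.2 hz0), ?_⟩
  intro v hv h3 h4
  have h5 := hfix hz v h3
  have h6 := hfix hz2 v h4
  have h7 : v 0 = 0 := by
    have h8 : 2 * (z * v 0) = 0 := by linear_combination h6 - h5
    exact (mul_eq_zero.1 ((mul_eq_zero.1 h8).resolve_left h2)).resolve_left hz0
  have h8 : v 1 = 0 := by rw [h5, h7, mul_zero]
  have h9 : v 2 = 0 := by
    rw [hermForm, Fin.sum_univ_three, h7, h8, zero_mul, zero_add, zero_add] at hv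
    rcases mul_eq_zero.1 hv with h10 | h10
    · exact h10
    · exact pow_eq_zero_iff (by omega) |>.1 h10
  funext i
  fin_cases i
  · exact h7
  · exact h8
  · exact h9

/-- no common Sylow subgroup -/
theorem not_same (hK : Fintype.card K = q ^ 2) {p : ℕ} [hp : Fact p.Prime] [CharP K p] {u₁ u₂ : SU 3 K q}
    (h₁ : u₁ ^ p = 1) (h₂ : u₂ ^ p = 1) (hu : (QuotientGroup.mk u₁ : PSU 3 K q) ≠ 1)
    (hv : ∀ v : Fin 3 → K, hermForm 3 K q v v = 0 → u₁.1.1 *ᵥ v = v → u₂.1.1 *ᵥ v = v → v = 0)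
    (P : Sylow p (PSU 3 K q)) (hP₁ : (QuotientGroup.mk u₁ : PSU 3 K q) ∈ P)
    (hP₂ : (QuotientGroup.mk u₂ : PSU 3 K q) ∈ P) : False := by
  have hfin : Finite (SU 3 K q) := inferInstance
  set e := MulEquiv.refl (PSU 3 K q) with he
  obtain ⟨P₁, rfl⟩ := Sylow.mapSurjective_surjective (H488.PsuTwo.pi_surj e) p P
  have key : ∀ u : SU 3 K q, u ^ p = 1 →
      (QuotientGroup.mk u : PSU 3 K q) ∈ P₁.mapSurjective (H488.PsuTwo.pi_surj e) → u ∈ P₁ := by
    intro u hu hmem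
    have h1 : (QuotientGroup.mk u : PSU 3 K q) ∈
        ((P₁.mapSurjective (H488.PsuTwo.pi_surj e) : Sylow p _) : Subgroup (PSU 3 K q)) := hmem
    rw [Sylow.coe_mapSurjective] at h1
    obtain ⟨w, hw, hwu⟩ := h1
    obtain ⟨k, hk⟩ := P₁.2 ⟨w, hw⟩
    have h3 : w = u := H488.PsuTwo.eq_of_pi (p := p) (e := e) hK (k := k) (m := 1) hwu (congrArg Subtype.val hk)
      (by rw [pow_one]; exact hu)
    rw [← h3]
    exact hw
  have h3 := key u₁ h₁ hP₁
  have h4 := key u₂ h₂ hP₂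
  have hne : (P₁ : Subgroup (SU 3 K q)) ≠ ⊥ := by
    intro hbot
    have h5 : u₁ ∈ (P₁ : Subgroup (SU 3 K q)) := h3
    rw [hbot, mem_bot] at h5
    apply hu
    rw [h5]
    rfl
  obtain ⟨v, hv0, hvv, hPv⟩ := H488.PsuTwo.exists_vec hK P₁ hne
  have h5 : u₁ ∈ (P₁ : Subgroup (SU 3 K q)) := h3
  have h6 : u₂ ∈ (P₁ : Subgroup (SU 3 K q)) := h4
  rw [hPv, H96.TISylow.mem_vstab] at h5 h6
  exact hv0 (hv v hvv h5 h6)

/-- **`PSU₃(q)`, `q ≥ 5` odd**: fixity at most 4 and `2 ∣ |H|` force `H = ⊤`. -/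
theorem psu3_eq_top (hK : Fintype.card K = q ^ 2) (ho : Odd q) (hq : 5 ≤ q) (H : Subgroup (PSU 3 K q))
    (h : FixLE 4 H) (h2 : 2 ∣ Nat.card H) : H = ⊤ := by
  by_contra hH
  have hfin : Finite (SU 3 K q) := inferInstance
  have hfinP : Finite (PSU 3 K q) := Quotient.finite _
  have hs : IsSimpleGroup (PSU 3 K q) := S0283.result hK 3 (le_refl 3) (by omega)
  -- the characteristic
  obtain ⟨p, hchar⟩ := CharP.exists K
  have hp : p.Prime := CharP.char_is_prime K p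
  have hpf : Fact p.Prime := ⟨hp⟩
  obtain ⟨f, hf1, hf⟩ : ∃ f : ℕ, 1 ≤ f ∧ q = p ^ f := by
    obtain ⟨n, -, hn⟩ := FiniteField.card K p
    rw [hK] at hn
    obtain ⟨f, -, hf⟩ := (Nat.dvd_prime_pow hp).1 (Dvd.intro q (by rw [← sq]; exact hn) : q ∣ p ^ (n : ℕ))
    refine ⟨f, ?_, hf⟩
    rcases Nat.eq_zero_or_pos f with h0 | h0
    · rw [h0, pow_zero] at hf; omega
    · exact h0
  have hp2 : p ≠ 2 := by
    rintro rfl
    rw [hf] at ho
    exact (Nat.not_odd_iff_even.2 (even_two.pow_of_ne_zero (by omega))) ho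
  obtain ⟨u₁, u₂, d, hu₁, hu₂, hd, hc₁, hc₂, hn₁, hn₂, hv⟩ := exists_pair hK ho p
  -- the involution
  have hd2 : d * d = 1 := by
    refine H901.Ov.su_ext ?_
    show d.1.1 * d.1.1 = 1
    rw [hd]
    ext i j
    fin_cases i <;> fin_cases j <;> simp [Matrix.mul_apply, Fin.sum_univ_three]
  set t0 : PSU 3 K q := QuotientGroup.mk d with ht0
  have ht01 : t0 ≠ 1 := H901.Ov.not_center hK ho hd (Or.inr (H901.Ov.one_ne_neg hK ho))
  have ht02 : t0 * t0 = 1 := by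
    rw [ht0, ← QuotientGroup.mk_mul, hd2]; rfl
  obtain ⟨t, ht⟩ := exists_prime_orderOf_dvd_card' 2 h2
  have ht2 : (t : PSU 3 K q) * t = 1 := by
    have h1 : t ^ 2 = 1 := orderOf_dvd_iff_pow_eq_one.1 ht.dvd
    rw [pow_two] at h1
    exact congrArg Subtype.val h1
  have ht1 : (t : PSU 3 K q) ≠ 1 := by
    intro h1
    have h3 : t = 1 := Subtype.ext h1
    rw [h3, orderOf_one] at ht
    exact absurd ht (by norm_num)
  obtain ⟨g0, hg0⟩ := H901.Ov.oneCl_PSU3 hK ho (t : PSU 3 K q) t0 ht2 ht1 ht02 ht01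
  set H' := H.map (MulAut.conj g0).toMonoidHom with hH'
  have ht0H : t0 ∈ H' := ⟨t, t.2, hg0⟩
  have hfix : FixLE 4 H' := h.conj g0
  have hH'top : H' ≠ ⊤ := by
    intro h1
    apply hH
    rw [eq_top_iff]
    intro x _
    have h3 : g0 * x * g0⁻¹ ∈ H' := by rw [h1]; trivial
    obtain ⟨y, hy, hyx⟩ := h3
    have h4 : g0 * y * g0⁻¹ = g0 * x * g0⁻¹ := hyx
    have h5 : y = x := by simpa using h4
    rw [← h5]; exact hy
  -- first case
  by_cases hr : ∃ r : ℕ, r.Prime ∧ 5 ≤ r ∧ r ∣ q + 1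
  · obtain ⟨r, hr, hr5, hrq⟩ := hr
    have hrf : Fact r.Prime := ⟨hr⟩
    obtain ⟨w, hwo, hwq⟩ := exists_unit hK hrq
    have hwr : w ^ r = 1 := by rw [← hwo]; exact pow_orderOf_eq_one w
    have hw1 : w ≠ 1 := by
      rintro rfl
      rw [orderOf_one] at hwo
      omega
    have hwq' : (w : K) ^ (q + 1) = 1 := by rw [← Units.val_pow_eq_pow_val, hwq, Units.val_one]
    have hwiq : ((w⁻¹ : Kˣ) : K) ^ (q + 1) = 1 := by
      rw [← Units.val_pow_eq_pow_val, inv_pow, hwq, inv_one, Units.val_one]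
    obtain ⟨D, hD⟩ := H901.Ov.exists_dg (F := K) (q := q) hK (a := w) (b := ((w⁻¹ : Kˣ) : K)) (c := 1)
      (by rw [mul_one, Units.mul_inv]) hwq' hwiq (one_pow _)
    have hDpow : ∀ n : ℕ, (D ^ n).1.1 = !![(w : K) ^ n, 0, 0; 0, ((w⁻¹ : Kˣ) : K) ^ n, 0; 0, 0, 1] := by
      intro n
      induction n with
      | zero =>
        show (1 : Matrix (Fin 3) (Fin 3) K) = _
        ext i j
        fin_cases i <;> fin_cases j <;> simp
      | succ n ih =>
        rw [pow_succ]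
        show (D ^ n).1.1 * D.1.1 = _
        rw [ih, hD]
        ext i j
        fin_cases i <;> fin_cases j <;> simp [Matrix.mul_apply, Fin.sum_univ_three, pow_succ]
    have hDr : D ^ r = 1 := by
      refine H901.Ov.su_ext ?_
      rw [hDpow, ← Units.val_pow_eq_pow_val, ← Units.val_pow_eq_pow_val, inv_pow, hwr, inv_one, Units.val_one]
      show _ = (1 : Matrix (Fin 3) (Fin 3) K)
      ext i j
      fin_cases i <;> fin_cases j <;> simp
    have hDc : D * d = d * D := by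
      refine H901.Ov.su_ext ?_
      show D.1.1 * d.1.1 = d.1.1 * D.1.1
      rw [hd, hD]
      ext i j
      fin_cases i <;> fin_cases j <;> simp [Matrix.mul_apply, Fin.sum_univ_three]
    set y : PSU 3 K q := QuotientGroup.mk D with hy
    have hy1 : y ≠ 1 := H901.Ov.not_center hK ho hD (Or.inr (fun h => hw1 (Units.ext h)))
    have hyo : orderOf y = r := by
      apply orderOf_eq_prime _ hy1
      rw [hy, ← QuotientGroup.mk_pow, hDr]; rfl
    have hyH : y ∈ H' := by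
      refine hfix.mem_of_comm (le_refl 4) ht0H ht01 ?_ ?_
      · rw [hy, ht0, ← QuotientGroup.mk_mul, ← QuotientGroup.mk_mul, hDc]
      · rw [hyo]
        exact coprime_six_of_prime hr hr5
    have hdvd : r ∣ Nat.card H' := by
      rw [← hyo, ← Subgroup.orderOf_mk y hyH]
      exact orderOf_dvd_natCard _
    refine hfix.false_of_noSP (le_refl 4) hH'top hr hr5 hdvd ?_
    refine H242.StrP.Uni.noSP_three_of_root hK (by omega) (MulEquiv.refl _) hwq ?_ ?_
    · intro h3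
      have h4 : r ∣ 3 := by rw [← hwo]; exact orderOf_dvd_of_pow_eq_one h3
      have := Nat.le_of_dvd (by norm_num) h4
      omega
    · rw [mul_comm, pow_mul, hwr, one_pow]
  · -- second case: `p ≥ 5`
    have hp3 : p ≠ 3 := by
      rintro rfl
      apply hr
      have hf2 : 2 ≤ f := by
        by_contra hlt
        have : f = 1 := by omega
        rw [hf, this] at hq
        norm_num at hq
      rw [hf]
      exact exists_prime_three hf2
    have hp5 : 5 ≤ p := by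
      have := hp.two_le
      rcases Nat.lt_or_ge p 5 with h5 | h5
      · interval_cases p
        · exact absurd rfl hp2
        · exact absurd rfl hp3
        · exact absurd hp (by norm_num)
      · exact h5
    have key : ∀ u : SU 3 K q, u ^ p = 1 → u * d = d * u → (QuotientGroup.mk u : PSU 3 K q) ≠ 1 →
        (QuotientGroup.mk u : PSU 3 K q) ∈ H' ∧ ∃ P : Sylow p (PSU 3 K q), (QuotientGroup.mk u : PSU 3 K q) ∈ P := by
      intro u hu hc hn
      have hup : (QuotientGroup.mk u : PSU 3 K q) ^ p = 1 := by rw [← QuotientGroup.mk_pow, hu]; rfl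
      have huo : orderOf (QuotientGroup.mk u : PSU 3 K q) = p := orderOf_eq_prime hup hn
      refine ⟨hfix.mem_of_comm (le_refl 4) ht0H ht01 ?_ ?_, ?_⟩
      · rw [ht0, ← QuotientGroup.mk_mul, ← QuotientGroup.mk_mul, hc]
      · rw [huo]
        exact coprime_six_of_prime hp hp5
      · have hpg : IsPGroup p (zpowers (QuotientGroup.mk u : PSU 3 K q)) := by
          refine IsPGroup.of_card (n := 1) ?_
          rw [Nat.card_zpowers, huo, pow_one]
        obtain ⟨P, hP⟩ := hpg.exists_le_sylow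
        exact ⟨P, hP (mem_zpowers _)⟩
    obtain ⟨hm₁, P₁, hP₁⟩ := key u₁ hu₁ hc₁ hn₁
    obtain ⟨hm₂, P₂, hP₂⟩ := key u₂ hu₂ hc₂ hn₂
    have hne : P₁ ≠ P₂ := by
      rintro rfl
      exact not_same hK hu₁ hu₂ hn₁ hv P₁ hP₁ hP₂
    obtain ⟨hcP, hcS, -⟩ := H488.PsuTwo.card_sylow (p := p) hK (by omega) (MulEquiv.refl (PSU 3 K q)) hs
    exact hH'top (eq_top_of_meet hfix (le_refl 4) hp5 (H488.PsuTwo.ti hK (MulEquiv.refl _))
      (fun P => by rw [hcS, hcP P]) hne hP₁ hP₂ hn₁ hn₂ hm₁ hm₂)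

/-- **task 2055** -/
theorem noEx_psu3_odd {q : ℕ} (K : Type) [Field K] [Fintype K] (hK : Fintype.card K = q ^ 2) (ho : Odd q)
    (hq : 5 ≤ q) : ∀ H : Subgroup (PSU 3 K q), FixLE 4 H → 2 ∣ Nat.card H →
      ¬ ∃ g : PSU 3 K q, g ≠ 1 ∧ (MulAction.fixedBy (PSU 3 K q ⧸ H) g).ncard = 4 := by
  rintro H h h2 ⟨g, -, hg⟩
  have hfin : Finite (SU 3 K q) := inferInstance
  have hfinP : Finite (PSU 3 K q) := Quotient.finite _
  exact ncard_fixedBy_top_ne g (psu3_eq_top hK ho hq H h h2) hg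

end Cfsg.Agent.H567.Fx
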