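import Cfsg.Agent.H254.FxEvenTI

/-!
# Fixity at most 4, `p ≥ 5`, Sylow `p`-subgroups TI with `|P| + 1 = n_p` (helper567, for S3002)
-/

set_option autoImplicit false
set_option linter.unusedSectionVars false

namespace Cfsg.Agent.H567.Fx

open Subgroup Cfsg.Agent.H254.Ev Cfsg.Agent.H254.Fx

variable {G : Type*} [Group G] [Finite G] {H : Subgroup G} {k : ℕ}

/-- A Sylow `p`-subgroup meeting `H` is contained in `H`, `p ≥ 5`. -/
theorem sylow_le (h : FixLE k H) (hk : k ≤ 4) {p : ℕ} [hp : Fact p.Prime] (h5 : 5 ≤ p) (P : Sylow p G)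
    (hne : (P : Subgroup G) ⊓ H ≠ ⊥) : (P : Subgroup G) ≤ H := by
  by_contra hcon
  set X := (P : Subgroup G) ⊓ H with hX
  have hXP : X ≤ P := inf_le_left
  have hXH : X ≤ H := inf_le_right
  have : Group.IsNilpotent (P : Subgroup G) := P.isPGroup'.isNilpotent
  have h7 := Group.normalizerCondition_of_isNilpotent (G := (P : Subgroup G))
    (X.subgroupOf (P : Subgroup G)) (lt_top_iff_ne_top.2 (by
      rw [Ne, subgroupOf_eq_top]
      exact fun h8 => hcon (h8.trans hXH)))
  obtain ⟨z, hz, hzR⟩ := SetLike.exists_of_lt h7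
  apply hzR
  rw [mem_subgroupOf]
  refine ⟨z.2, ?_⟩
  refine h.mem_of_coprime hk hXH hne ?_ (coprime_of_pgroup h5 (isPGroup_zpowers_of_le P.isPGroup' z.2))
  rw [mem_normalizer_iff] at hz ⊢
  intro w
  constructor
  · intro hw
    exact (hz ⟨w, hXP hw⟩).1 (by rw [mem_subgroupOf]; exact hw)
  · intro hw
    have h10 : w ∈ (P : Subgroup G) := by
      have h11 := (P : Subgroup G).mul_mem ((P : Subgroup G).mul_mem
        ((P : Subgroup G).inv_mem z.2) (hXP hw)) z.2
      have : (z : G)⁻¹ * (z * w * (z : G)⁻¹) * z = w := by group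
      rwa [this] at h11
    exact (hz ⟨w, h10⟩).2 (by rw [mem_subgroupOf]; exact hw)

/-- Two different Sylow `p`-subgroups generate. -/
theorem eq_top_of_two [IsSimpleGroup G] {p : ℕ} [hp : Fact p.Prime]
    (hti : ∀ P Q : Sylow p G, P ≠ Q → (P : Subgroup G) ⊓ Q = ⊥)
    (hcard : ∀ P : Sylow p G, Nat.card (Sylow p G) = Nat.card P + 1) (P Q : Sylow p G) (hPQ : P ≠ Q)
    (hP1 : (P : Subgroup G) ≠ ⊥) (hP : (P : Subgroup G) ≤ H) (hQ : (Q : Subgroup G) ≤ H) : H = ⊤ := by
  classical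
  -- the orbit of `Q` under `P`
  have hstab : MulAction.stabilizer (P : Subgroup G) Q = ⊥ := by
    rw [eq_bot_iff]
    intro x hx
    rw [MulAction.mem_stabilizer_iff] at hx
    have h1 : (x : G) • Q = Q := hx
    have h2 : (x : G) ∈ normalizer ((Q : Subgroup G) : Set G) := Sylow.smul_eq_iff_mem_normalizer.1 h1
    have h3 : (x : G) ∈ (P : Subgroup G) ⊓ Q :=
      (IsPGroup.inf_normalizer_sylow P.isPGroup' Q).le (⟨x.2, h2⟩ : (x : G) ∈ (P : Subgroup G) ⊓ normalizer (Q : Set G))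
    rw [hti P Q hPQ, mem_bot] at h3
    rw [mem_bot]
    exact Subtype.ext h3
  have horb : (MulAction.orbit (P : Subgroup G) Q).ncard = Nat.card P := by
    rw [← MulAction.index_stabilizer, hstab, index_bot]
  have hnot : P ∉ MulAction.orbit (P : Subgroup G) Q := by
    rintro ⟨x, hx⟩
    apply hPQ
    have h1 : (x : G) • Q = P := hx
    have h2 : (x : G) • P = P := Sylow.smul_eq_iff_mem_normalizer.2 (le_normalizer x.2)
    exact MulAction.injective (x : G) (h2.trans h1.symm)
  have hall : ∀ R : Sylow p G, (R : Subgroup G) ≤ H := by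
    intro R
    by_cases hR : R = P
    · rw [hR]; exact hP
    have hmem : R ∈ MulAction.orbit (P : Subgroup G) Q := by
      by_contra hnR
      have h1 : (insert R (insert P (MulAction.orbit (P : Subgroup G) Q))).ncard ≤ Nat.card (Sylow p G) := by
        rw [← Set.ncard_univ]
        exact Set.ncard_le_ncard (Set.subset_univ _) (Set.toFinite _)
      rw [Set.ncard_insert_of_notMem _ (Set.toFinite _), Set.ncard_insert_of_notMem hnot (Set.toFinite _), horb,
        hcard P] at h1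
      · omega
      · intro h2
        rcases Set.mem_insert_iff.1 h2 with h2 | h2
        · exact hR h2
        · exact hnR h2
    obtain ⟨x, rfl⟩ := hmem
    intro y hy
    have hy' : y ∈ ((x : G) • Q : Sylow p G) := hy
    have h1 : (x : G)⁻¹ * y * x ∈ Q := by
      have h2 : y ∈ (((x : G) • Q : Sylow p G) : Subgroup G) := hy'
      rw [Sylow.coe_subgroup_smul] at h2
      obtain ⟨z, hz, rfl⟩ := h2
      have : (x : G)⁻¹ * (MulAut.conj (x : G) z) * x = z := by
        rw [MulAut.conj_apply]; group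
      show (x : G)⁻¹ * (MulAut.conj (x : G) z) * x ∈ Q
      rw [this]
      exact hz
    have h3 := H.mul_mem (H.mul_mem (hP x.2) (hQ h1)) (H.inv_mem (hP x.2))
    have e : (x : G) * ((x : G)⁻¹ * y * x) * (x : G)⁻¹ = y := by group
    rwa [e] at h3
  -- the normal closure of `P`
  have hnc : normalClosure ((P : Subgroup G) : Set G) ≤ H := by
    rw [normalClosure, closure_le]
    intro y hy
    rw [Group.mem_conjugatesOfSet_iff] at hy
    obtain ⟨a, ha, hay⟩ := hy
    obtain ⟨g, rfl⟩ := isConj_iff.1 hay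
    apply hall (g • P)
    rw [Sylow.coe_subgroup_smul]
    exact ⟨a, ha, rfl⟩
  rcases (normalClosure_normal (s := ((P : Subgroup G) : Set G))).eq_bot_or_eq_top with h1 | h1
  · exact absurd (le_bot_iff.1 (h1 ▸ (subset_normalClosure (s := ((P : Subgroup G) : Set G)) :
      (P : Subgroup G) ≤ _))) hP1
  · exact top_le_iff.1 (h1 ▸ hnc)

/-- **`H` meeting two different Sylow `p`-subgroups, `p ≥ 5`.** -/
theorem eq_top_of_meet [IsSimpleGroup G] (h : FixLE k H) (hk : k ≤ 4) {p : ℕ} [hp : Fact p.Prime] (h5 : 5 ≤ p)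
    (hti : ∀ P Q : Sylow p G, P ≠ Q → (P : Subgroup G) ⊓ Q = ⊥)
    (hcard : ∀ P : Sylow p G, Nat.card (Sylow p G) = Nat.card P + 1) {P Q : Sylow p G} (hPQ : P ≠ Q) {x y : G}
    (hx : x ∈ P) (hy : y ∈ Q) (hx1 : x ≠ 1) (hy1 : y ≠ 1) (hxH : x ∈ H) (hyH : y ∈ H) : H = ⊤ := by
  have hne : ∀ (R : Sylow p G) (z : G), z ∈ R → z ∈ H → z ≠ 1 → (R : Subgroup G) ⊓ H ≠ ⊥ := by
    intro R z hz hzH hz1 hbot
    have h1 : z ∈ (R : Subgroup G) ⊓ H := ⟨hz, hzH⟩
    rw [hbot, mem_bot] at h1
    exact hz1 h1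
  refine eq_top_of_two hti hcard P Q hPQ ?_ (sylow_le h hk h5 P (hne P x hx hxH hx1))
    (sylow_le h hk h5 Q (hne Q y hy hyH hy1))
  intro hbot
  have h1 : x ∈ (P : Subgroup G) := hx
  rw [hbot, mem_bot] at h1
  exact hx1 h1

/-- A transitive action with trivial point stabilizer index. -/
theorem ncard_fixedBy_top_ne (g : G) (hH : H = ⊤) : (MulAction.fixedBy (G ⧸ H) g).ncard ≠ 4 := by
  subst hH
  have h1 : (MulAction.fixedBy (G ⧸ (⊤ : Subgroup G)) g).ncard ≤ 1 := by
    have : Subsingleton (G ⧸ (⊤ : Subgroup G)) := QuotientGroup.subsingleton_quotient_top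
    rw [Set.ncard_le_one (Set.toFinite _)]
    intro a _ b _
    exact Subsingleton.elim a b
  omega

end Cfsg.Agent.H567.Fx
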